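import Groth.Agent.SymX.Gen
import Groth.Agent.SymX.FiniteImm
import Groth.Agent.QCoh.AlgGen
import Groth.Agent.RelSpecX.AffHom
import Groth.Agent.RelSpecX.Gamma
import Groth.Agent.S8270
import Mathlib

/-!
# Affine morphisms of finite type embed into vector bundles
-/

set_option autoImplicit false
set_option linter.style.haveILetI false
set_option backward.isDefEq.respectTransparency false
set_option backward.isDefEq.respectTransparency.types false

universe u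

open CategoryTheory CategoryTheory.Limits AlgebraicGeometry TopologicalSpace Opposite

noncomputable section

namespace Groth.Agent.AffEmbed

variable {X Y : Scheme.{u}}

/-- An affine morphism is the spectrum of its direct image algebra. -/
theorem exists_iso_spec (f : X ⟶ Y) [IsAffineHom f] :
    ∃ c : X ⟶ (RelSpec.QCAlg.directImage f).spec, IsIso c ∧ c ≫ (RelSpec.QCAlg.directImage f).π = f := by
  let A := RelSpec.QCAlg.directImage f
  have hω : A.π.c ≫ A.gammaMap = f.c := RelSpecX.hom_ext_affine f fun U hU => by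
    change A.π.app U ≫ A.gammaMap.app (op U) = A.str.app (op U)
    rw [A.gammaMap_app U hU]
    exact A.π_app_gammaAff U hU
  let ω : AffAlg.algHoms A.π f := ⟨A.gammaMap, hω⟩
  let c := RelSpecX.ofAlgHom A.π f ω
  have hc : c ≫ A.π = f := RelSpecX.ofAlgHom_comp A.π f ω
  refine ⟨c, ?_, hc⟩
  refine IsZariskiLocalAtTarget.of_iSup_eq_top (P := MorphismProperty.isomorphisms Scheme)
    (fun U : Y.affineOpens => A.π ⁻¹ᵁ U.1)
    (TopologicalSpace.IsOpenCover.comap (iSup_affineOpens_eq_top Y) A.π.base.1) fun U => ?_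
  haveI : IsIso A.gammaMap := RelSpecX.isIso_gammaMap A
  haveI : IsIso (ω.1.app (op U.1)) := NatIso.isIso_app_of_isIso A.gammaMap (op U.1)
  haveI : IsAffine ((f ⁻¹ᵁ U.1 : X.Opens) : Scheme.{u}) := U.2.preimage f
  haveI : IsIso (f ⁻¹ᵁ U.1).toSpecΓ := by
    haveI : IsIso ((f ⁻¹ᵁ U.1 : X.Opens) : Scheme.{u}).toSpecΓ := IsAffine.affine
    show IsIso (_ ≫ _)
    infer_instance
  have hpre : c ⁻¹ᵁ (A.π ⁻¹ᵁ U.1) = f ⁻¹ᵁ U.1 := by rw [← Scheme.Hom.comp_preimage, hc]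
  have hrange : ((U.2.preimage A.π).fromSpec).opensRange = A.π ⁻¹ᵁ U.1 := (U.2.preimage A.π).opensRange_fromSpec
  have e : (c ∣_ (A.π ⁻¹ᵁ U.1)) ≫ (A.π ⁻¹ᵁ U.1).ι = ((X.isoOfEq hpre).hom ≫ (f ⁻¹ᵁ U.1).toSpecΓ ≫
      Spec.map (ω.1.app (op U.1)) ≫ (U.2.preimage A.π).isoSpec.inv) ≫ (A.π ⁻¹ᵁ U.1).ι := by
    rw [morphismRestrict_ι]
    simp only [Category.assoc]
    rw [show (U.2.preimage A.π).isoSpec.inv ≫ (A.π ⁻¹ᵁ U.1).ι = (U.2.preimage A.π).fromSpec from rfl,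
      ← RelSpecX.ι_ofAlgHom A.π f ω U, ← Category.assoc, Scheme.isoOfEq_hom_ι]
  rw [cancel_mono] at e
  show IsIso (c ∣_ (A.π ⁻¹ᵁ U.1))
  rw [e]
  infer_instance

/-- On a qcqs or Noetherian base the direct image algebra of an affine morphism of finite type is generated by a
coherent module. -/
theorem exists_generators (hY : (CompactSpace Y ∧ Y.IsSeparated) ∨ NoetherianSpace Y) (f : X ⟶ Y)
    [IsAffineHom f] [LocallyOfFiniteType f] :
    ∃ (E : Y.Modules) (_ : Coh.IsQCoh E) (_ : CohB1.IsFT E) (u : E ⟶ (RelSpec.QCAlg.directImage f).toModule),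
      ∀ y : Y, ∃ U : Y.Opens, y ∈ U ∧ IsAffineOpen U ∧
        ∀ S : Subring Γ(X, f ⁻¹ᵁ U), (∀ r : Γ(Y, U), f.app U r ∈ S) →
          (∀ z : Γ(E, U), (u.app U z : Γ(X, f ⁻¹ᵁ U)) ∈ S) → S = ⊤ := by
  classical
  obtain ⟨hc, hext⟩ := SymX.extStep_of_base hY
  haveI : HasFiniteBiproducts Y.Modules := HasFiniteBiproducts.of_hasFiniteProducts
  let B := RelSpec.QCAlg.directImage f
  have hB : Coh.IsQCoh B.toModule := QCoh.isQCoh_toModule B
  obtain ⟨pts, hpts⟩ := isCompact_univ.elim_finite_subcover (fun U : Y.affineOpens => (U.1 : Set Y)) (fun U => U.1.2)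
    (fun y _ => by
      obtain ⟨_, ⟨U, hU, rfl⟩, hyU, -⟩ := Y.isBasis_affineOpens.exists_subset_of_mem_open (Set.mem_univ y) isOpen_univ
      exact Set.mem_iUnion.2 ⟨⟨U, hU⟩, hyU⟩)
  have hgen : ∀ U : Y.affineOpens, ∃ T : Finset Γ(X, f ⁻¹ᵁ U.1),
      ∀ S : Subring Γ(X, f ⁻¹ᵁ U.1), (∀ r : Γ(Y, U.1), f.app U.1 r ∈ S) → (∀ t ∈ T, t ∈ S) → S = ⊤ := fun U => by
    letI := (f.app U.1).hom.toAlgebra
    have h : RingHom.FiniteType (f.app U.1).hom := by
      have h' := LocallyOfFiniteType.finiteType_appLE f U.2 (U.2.preimage f) le_rfl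
      rwa [← Scheme.Hom.app_eq_appLE] at h'
    obtain ⟨⟨T, hT⟩⟩ := (h : Algebra.FiniteType Γ(Y, U.1) Γ(X, f ⁻¹ᵁ U.1))
    refine ⟨T, fun S hr ht => eq_top_iff.2 fun b _ => ?_⟩
    let S' : Subalgebra Γ(Y, U.1) Γ(X, f ⁻¹ᵁ U.1) := { S with algebraMap_mem' := hr }
    exact (show Algebra.adjoin _ (T : Set Γ(X, f ⁻¹ᵁ U.1)) ≤ S' from Algebra.adjoin_le fun t h => ht t h)
      (hT.ge trivial)
  choose T hT using hgen
  choose N hNft hNmem using fun U : Y.affineOpens =>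
    QCoh.exists_ftOn_contains hB U.2 (hext _ U.2) ((↑(T U) : Set Γ(X, f ⁻¹ᵁ U.1))) (T U).finite_toSet
  let M : ↥pts → Y.Modules := fun U => (N U.1).toModules
  refine ⟨⨁ M, QCoh.isQCoh_biproduct M fun U => QCoh.isQCoh_of_ftOn hB (hNft U.1),
    SymX.isFT_biproduct M (fun U => QCoh.isQCoh_of_ftOn hB (hNft U.1)) (fun U => QCoh.isFT_of_ftOn hB (hNft U.1)),
    biproduct.desc fun U => (N U.1).ι, fun y => ?_⟩
  obtain ⟨U, hU, hyU⟩ := Set.mem_iUnion₂.1 (hpts (Set.mem_univ y))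
  refine ⟨U.1, hyU, U.2, fun S hr hz => hT U S hr fun t ht => ?_⟩
  obtain ⟨z, hz'⟩ := (N U).exists_app_eq (hNmem U ht)
  have h2 : (biproduct.desc fun V : ↥pts => (N V.1).ι).app U.1 ((biproduct.ι M ⟨U, hU⟩).app U.1 z) = (N U).ι.app U.1 z :=
    congrArg (fun χ : M ⟨U, hU⟩ ⟶ B.toModule => χ.app U.1 z) (biproduct.ι_desc _ _)
  have h3 := h2.trans hz'
  subst h3
  exact hz ((biproduct.ι M ⟨U, hU⟩).app U.1 z)

/-- An affine morphism of finite type embeds into a vector bundle. -/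
theorem exists_embedding (hY : (CompactSpace Y ∧ Y.IsSeparated) ∨ NoetherianSpace Y) (f : X ⟶ Y)
    [IsAffineHom f] [LocallyOfFiniteType f] :
    ∃ (E : Y.Modules) (_ : Coh.IsQCoh E) (_ : CohB1.IsFT E) (A : RelSpec.QCAlg Y) (j : E ⟶ A.toModule)
      (_ : RelSpec.IsSymAlg E A j) (i : X ⟶ A.spec), IsClosedImmersion i ∧ i ≫ A.π = f := by
  obtain ⟨E, hE, hft, u, hu⟩ := exists_generators hY f
  obtain ⟨A, j, hA⟩ := S8270.result E hE
  let B := RelSpec.QCAlg.directImage f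
  obtain ⟨ψ, hψ, -⟩ := hA B u
  choose U hyU hU hgen using hu
  haveI : IsClosedImmersion (RelSpec.QCAlg.specMap ψ) := by
    refine IsZariskiLocalAtTarget.of_iSup_eq_top (fun y : Y => A.π ⁻¹ᵁ U y)
      (TopologicalSpace.IsOpenCover.comap (top_unique fun y _ => Opens.mem_iSup.2 ⟨y, hyU y⟩) A.π.base.1) fun y => ?_
    haveI : IsClosedImmersion (Spec.map (ψ.hom.app (op (U y)))) := by
      refine IsClosedImmersion.spec_of_surjective _ fun b => ?_
      have htop := hgen y (ψ.hom.app (op (U y))).hom.range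
        (fun r => ⟨(A.str.app (op (U y))).hom r, congr($(NatTrans.congr_app ψ.comm (op (U y))).hom r)⟩)
        (fun z => ⟨j.app (U y) z, congrArg (fun χ : E ⟶ B.toModule => χ.app (U y) z) hψ⟩)
      exact RingHom.mem_range.1 (htop ▸ Subring.mem_top b)
    have hB' : RelSpec.QCAlg.specMap ψ ⁻¹ᵁ (A.π ⁻¹ᵁ U y) = (B.ι (U y) (hU y)).opensRange := by
      rw [← Scheme.Hom.comp_preimage, RelSpec.QCAlg.specMap_π, B.π_preimage]
    have sq : IsPullback (B.ι (U y) (hU y)) (Spec.map (ψ.hom.app (op (U y)))) (RelSpec.QCAlg.specMap ψ)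
        (A.ι (U y) (hU y)) :=
      (IsOpenImmersion.isPullback (Spec.map (ψ.hom.app (op (U y)))) (B.ι (U y) (hU y)) (A.ι (U y) (hU y))
        (RelSpec.QCAlg.specMap ψ) (RelSpec.QCAlg.ι_specMap (U y) (hU y) ψ)
        (by rw [← A.π_preimage (U y) (hU y), hB'])).flip
    refine (MorphismProperty.arrow_mk_iso_iff @IsClosedImmersion
      (morphismRestrictEq (RelSpec.QCAlg.specMap ψ) (A.π_preimage (U y) (hU y)) ≪≫
        morphismRestrictOpensRange (RelSpec.QCAlg.specMap ψ) (A.ι (U y) (hU y)))).2 ?_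
    refine (MorphismProperty.cancel_left_of_respectsIso @IsClosedImmersion sq.isoPullback.hom _).1 ?_
    rw [sq.isoPullback_hom_snd]
    infer_instance
  obtain ⟨c, hc, hcπ⟩ := exists_iso_spec f
  refine ⟨E, hE, hft, A, j, hA, c ≫ RelSpec.QCAlg.specMap ψ, inferInstance, ?_⟩
  rw [Category.assoc, RelSpec.QCAlg.specMap_π, hcπ]

end Groth.Agent.AffEmbed
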